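import Mathlib

/-!
# The shape of five virtual characters with given inner products
-/

set_option autoImplicit false

namespace CfsgLib.GLTwoThreeCent

open Finset

variable {ι : Type*} [Fintype ι]

theorem sq_cases {f : ι → ℤ} {n : ℤ} (h : ∑ i, f i * f i = n) (hn : n < 4) (i : ι) :
    f i = 0 ∨ f i = 1 ∨ f i = -1 := by
  have h1 : f i * f i ≤ n := h ▸
    single_le_sum (f := fun i => f i * f i) (fun j _ => mul_self_nonneg (f j)) (mem_univ i)
  have h2 : -1 ≤ f i := by nlinarith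
  have h3 : f i ≤ 1 := by nlinarith
  omega

theorem card_supp [DecidableEq ι] {f : ι → ℤ} {n : ℕ} (h : ∑ i, f i * f i = n)
    (hc : ∀ i, f i = 0 ∨ f i = 1 ∨ f i = -1) : (univ.filter fun i => f i ≠ 0).card = n := by
  have : ∑ i, f i * f i = ∑ i, (if f i ≠ 0 then 1 else 0 : ℤ) := by
    refine sum_congr rfl fun i _ => ?_
    rcases hc i with h | h | h <;> simp [h]
  rw [this, sum_boole] at h
  exact_mod_cast h

theorem sum_eq_of_supp [DecidableEq ι] {R : Type*} [AddCommMonoid R] (s : Finset ι) (f : ι → R)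
    (h : ∀ i, i ∉ s → f i = 0) : ∑ i, f i = ∑ i ∈ s, f i :=
  (sum_subset (subset_univ s) fun i _ hi => h i hi).symm

theorem sq_sum_le [DecidableEq ι] (s : Finset ι) (f : ι → ℤ) :
    ∑ i ∈ s, f i * f i ≤ ∑ i, f i * f i :=
  sum_le_sum_of_subset_of_nonneg (subset_univ s) fun i _ _ => mul_self_nonneg (f i)

theorem mul_self_of_ne {f : ι → ℤ} {i : ι} (hc : f i = 0 ∨ f i = 1 ∨ f i = -1) (h : f i ≠ 0) :
    f i * f i = 1 := by
  rcases hc with h' | h' | h' <;> simp_all

/-- The Gram data and the degree equations. -/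
structure Frame (i₀ : ι) (a b c d e f : ι → ℤ) : Prop where
  aa : ∑ i, a i * a i = 3
  bb : ∑ i, b i * b i = 3
  dd : ∑ i, d i * d i = 2
  ee : ∑ i, e i * e i = 4
  ab : ∑ i, a i * b i = 1
  ae : ∑ i, a i * e i = 2
  be : ∑ i, b i * e i = 2
  da : ∑ i, d i * a i = 0
  db : ∑ i, d i * b i = 0
  de : ∑ i, d i * e i = 0
  ca : ∑ i, c i * a i = 0
  cb : ∑ i, c i * b i = 0
  ce : ∑ i, c i * e i = -1
  a0 : a i₀ = 1
  b0 : b i₀ = 0
  c0 : c i₀ = 0
  d0 : d i₀ = 0
  e0 : e i₀ = 1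
  f0 : f i₀ = 1
  fpos : ∀ i, f i ≠ 0
  af : ∑ i, a i * f i = 0
  bf : ∑ i, b i * f i = 0
  ef : ∑ i, e i * f i = 0

theorem eq_mul_of_sq {x u t : ℤ} (hx : x * x = 1) (h : x * u = t) : u = t * x := by
  rw [← h, mul_right_comm, hx, one_mul]

theorem small_solution {X T U V Z : ℤ} (h1 : X + T + U = 0) (h2 : X + T + V = 0) (h3 : X + Z = 0)
    (h : X * X + T * T + U * U + V * V + Z * Z ≤ 2) : X = 0 ∧ T = 0 ∧ U = 0 ∧ V = 0 ∧ Z = 0 := by
  obtain rfl : V = U := by linarith
  obtain rfl : Z = -X := by linarith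
  obtain rfl : T = -X - V := by linarith
  have : -1 ≤ X := by nlinarith
  have : X ≤ 1 := by nlinarith
  have : -1 ≤ V := by nlinarith
  have : V ≤ 1 := by nlinarith
  interval_cases X <;> interval_cases V <;> omega

theorem prod_bound {x u : ℤ} (hx : x = 0 ∨ x = 1 ∨ x = -1) (hu : u = 0 ∨ u = 1 ∨ u = -1) :
    x * u = 0 ∨ x * u = 1 ∨ x * u = -1 := by
  rcases hx with rfl | rfl | rfl <;> rcases hu with rfl | rfl | rfl <;> simp

variable [DecidableEq ι] {i₀ : ι} {a b c d e f : ι → ℤ}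

theorem Frame.ea (h : Frame i₀ a b c d e f) : ∀ i, a i = 0 ∨ a i = 1 ∨ a i = -1 :=
  sq_cases h.aa (by norm_num)

theorem Frame.eb (h : Frame i₀ a b c d e f) : ∀ i, b i = 0 ∨ b i = 1 ∨ b i = -1 :=
  sq_cases h.bb (by norm_num)

theorem Frame.ee' (h : Frame i₀ a b c d e f) : ∀ i, e i = 0 ∨ e i = 1 ∨ e i = -1 := by
  intro i
  rcases eq_or_ne i i₀ with rfl | hi
  · exact Or.inr (Or.inl h.e0)
  · have h1 : ∑ j ∈ ({i₀, i} : Finset ι), e j * e j ≤ 4 := h.ee ▸ sq_sum_le _ e
    rw [sum_pair hi.symm, h.e0] at h1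
    have h2 : -1 ≤ e i := by nlinarith
    have h3 : e i ≤ 1 := by nlinarith
    omega

/-- The supports. -/
theorem Frame.shape (h : Frame i₀ a b c d e f) : ∃ P Q W S Y : ι,
    i₀ ∉ ({P, Q, W, S, Y} : Finset ι) ∧ ({P, Q, W, S, Y} : Finset ι).card = 5 ∧
    (∀ i, i ∉ ({P, Q, W} : Finset ι) → b i = 0) ∧ (∀ i, i ∉ ({i₀, P, Q, S} : Finset ι) → e i = 0) ∧
    (∀ i, i ∉ ({i₀, P, Y} : Finset ι) → a i = 0) ∧
    b P * b P = 1 ∧ b Q * b Q = 1 ∧ b W * b W = 1 ∧ e S * e S = 1 ∧ a Y * a Y = 1 ∧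
    a P = b P ∧ e P = b P ∧ e Q = b Q ∧ d P = 0 ∧ d Q = 0 ∧ d W = 0 ∧ d S = 0 ∧ d Y = 0 := by
  obtain ⟨x, y, z, hxy, hxz, hyz, hs⟩ := card_eq_three.mp (card_supp (n := 3) h.bb h.eb)
  have hsupp : ∀ i, i ∉ ({x, y, z} : Finset ι) → b i = 0 := fun i hi => by
    rw [← hs] at hi
    simpa using hi
  have hne : ∀ i ∈ ({x, y, z} : Finset ι), b i ≠ 0 := fun i hi => by
    rw [← hs] at hi
    simpa using hi
  -- the label of the position where `e` vanishes
  have hbe : b x * e x + b y * e y + b z * e z = 2 := by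
    have := h.be
    rw [sum_eq_of_supp {x, y, z} _ (fun i hi => by rw [hsupp i hi, zero_mul]),
      sum_insert (by simp [hxy, hxz]), sum_pair hyz] at this
    linarith
  obtain ⟨P, Q, W, hPQ, hPW, hQW, hset, hePb, heQb, heW⟩ : ∃ P Q W : ι, P ≠ Q ∧ P ≠ W ∧ Q ≠ W ∧
      ({P, Q, W} : Finset ι) = {x, y, z} ∧ e P = b P ∧ e Q = b Q ∧ e W = 0 := by
    have sx := mul_self_of_ne (h.eb x) (hne x (by simp))
    have sy := mul_self_of_ne (h.eb y) (hne y (by simp))
    have sz := mul_self_of_ne (h.eb z) (hne z (by simp))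
    have px := prod_bound (h.eb x) (h.ee' x)
    have py := prod_bound (h.eb y) (h.ee' y)
    have pz := prod_bound (h.eb z) (h.ee' z)
    have key : (b x * e x = 0 ∧ b y * e y = 1 ∧ b z * e z = 1) ∨
        (b y * e y = 0 ∧ b x * e x = 1 ∧ b z * e z = 1) ∨
        (b z * e z = 0 ∧ b x * e x = 1 ∧ b y * e y = 1) := by omega
    have h0 : ∀ {i}, b i * b i = 1 → b i * e i = 0 → e i = 0 := fun hs ht => by
      rw [eq_mul_of_sq hs ht, zero_mul]
    have h1 : ∀ {i}, b i * b i = 1 → b i * e i = 1 → e i = b i := fun hs ht => by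
      rw [eq_mul_of_sq hs ht, one_mul]
    have c1 : ({y, z, x} : Finset ι) = {x, y, z} := by
      rw [pair_comm z x, insert_comm y x]
    have c2 : ({x, z, y} : Finset ι) = {x, y, z} := by rw [pair_comm z y]
    clear hs hsupp hne hbe px py pz
    rcases key with ⟨k0, k1, k2⟩ | ⟨k0, k1, k2⟩ | ⟨k0, k1, k2⟩
    · exact ⟨y, z, x, hyz, hxy.symm, hxz.symm, c1, h1 sy k1, h1 sz k2, h0 sx k0⟩
    · exact ⟨x, z, y, hxz, hxy, hyz.symm, c2, h1 sx k1, h1 sz k2, h0 sy k0⟩
    · exact ⟨x, y, z, hxy, hxz, hyz, rfl, h1 sx k1, h1 sy k2, h0 sz k0⟩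
  rw [← hset] at hsupp hne
  -- one of the first two positions is missed by `a`
  clear hset hbe hs
  have hP0' : P ≠ i₀ := fun e' => hne P (by simp) (e' ▸ h.b0)
  have hQ0' : Q ≠ i₀ := fun e' => hne Q (by simp) (e' ▸ h.b0)
  have hone : a P = 0 ∨ a Q = 0 := by
    by_contra hcon
    push Not at hcon
    have hsub : ({i₀, P, Q} : Finset ι) = univ.filter fun i => a i ≠ 0 := by
      refine eq_of_subset_of_card_le (fun i hi => ?_) (le_of_eq ?_)
      · simp only [mem_insert, mem_singleton] at hi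
        simp only [mem_filter, mem_univ, true_and]
        rcases hi with rfl | rfl | rfl
        exacts [by rw [h.a0]; norm_num, hcon.1, hcon.2]
      · rw [card_supp (n := 3) h.aa h.ea, card_insert_of_notMem (by simp [hP0'.symm, hQ0'.symm]),
          card_pair hPQ]
    have hab := h.ab
    rw [sum_eq_of_supp {i₀, P, Q} _ (fun i hi => by
        rw [hsub] at hi; simp at hi; rw [hi, zero_mul]),
      sum_insert (by simp [hP0'.symm, hQ0'.symm]), sum_pair hPQ, h.b0] at hab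
    have p1 : a P * b P ≠ 0 := mul_ne_zero hcon.1 (hne P (by simp))
    have p2 : a Q * b Q ≠ 0 := mul_ne_zero hcon.2 (hne Q (by simp))
    have p3 := prod_bound (h.ea P) (h.eb P)
    have p4 := prod_bound (h.ea Q) (h.eb Q)
    omega
  clear hP0' hQ0'
  obtain ⟨P, Q, hPQ, hPW, hQW, hsupp, hne, hePb, heQb, haQ⟩ : ∃ P' Q' : ι, P' ≠ Q' ∧ P' ≠ W ∧ Q' ≠ W ∧
      (∀ i, i ∉ ({P', Q', W} : Finset ι) → b i = 0) ∧ (∀ i ∈ ({P', Q', W} : Finset ι), b i ≠ 0) ∧
      e P' = b P' ∧ e Q' = b Q' ∧ a Q' = 0 := by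
    have hcomm : ({Q, P, W} : Finset ι) = {P, Q, W} := insert_comm _ _ _
    rcases hone with h' | h'
    · exact ⟨Q, P, hPQ.symm, hQW, hPW, hcomm ▸ hsupp, hcomm ▸ hne, heQb, hePb, h'⟩
    · exact ⟨P, Q, hPQ, hPW, hQW, hsupp, hne, hePb, heQb, h'⟩
  have hP0 : P ≠ i₀ := fun e' => hne P (by simp) (e' ▸ h.b0)
  have hQ0 : Q ≠ i₀ := fun e' => hne Q (by simp) (e' ▸ h.b0)
  have hW0 : W ≠ i₀ := fun e' => hne W (by simp) (e' ▸ h.b0)
  have hbP := mul_self_of_ne (h.eb P) (hne P (by simp))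
  have hbQ := mul_self_of_ne (h.eb Q) (hne Q (by simp))
  have hbW := mul_self_of_ne (h.eb W) (hne W (by simp))
  -- the fourth position of `e`
  obtain ⟨S, hS⟩ : ∃ S, (univ.filter fun i => e i ≠ 0) \ {i₀, P, Q} = {S} := by
    refine card_eq_one.mp ?_
    rw [card_sdiff_of_subset, card_supp (n := 4) h.ee h.ee', card_insert_of_notMem (by simp [hP0.symm, hQ0.symm]),
      card_pair hPQ]
    intro i hi
    simp only [mem_insert, mem_singleton] at hi
    simp only [mem_filter, mem_univ, true_and]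
    rcases hi with rfl | rfl | rfl
    · rw [h.e0]; norm_num
    · rw [hePb]; exact hne _ (by simp)
    · rw [heQb]; exact hne _ (by simp)
  have hS' : S ∈ (univ.filter fun i => e i ≠ 0) \ {i₀, P, Q} := hS ▸ mem_singleton_self S
  simp only [mem_sdiff, mem_filter, mem_univ, true_and, mem_insert, mem_singleton, not_or] at hS'
  obtain ⟨heS0, hS0, hSP, hSQ⟩ := hS'
  have hSW : S ≠ W := fun e' => heS0 (e' ▸ heW)
  have hesupp : ∀ i, i ∉ ({i₀, P, Q, S} : Finset ι) → e i = 0 := fun i hi => by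
    simp only [mem_insert, mem_singleton, not_or] at hi
    by_contra hcon
    have : i ∈ (univ.filter fun i => e i ≠ 0) \ {i₀, P, Q} := by
      simp [hcon, hi.1, hi.2.1, hi.2.2.1]
    exact hi.2.2.2 (mem_singleton.mp (hS ▸ this))
  have heS := mul_self_of_ne (h.ee' S) heS0
  have inb : ∀ g : ι → ℤ, ∑ i, g i * b i = g P * b P + g Q * b Q + g W * b W := fun g => by
    rw [sum_eq_of_supp {P, Q, W} _ (fun i hi => by rw [hsupp i hi, mul_zero]),
      sum_insert (by simp [hPQ, hPW]), sum_pair hQW]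
    ring
  have ine : ∀ g : ι → ℤ, ∑ i, g i * e i = g i₀ + g P * b P + g Q * b Q + g S * e S := fun g => by
    rw [sum_eq_of_supp {i₀, P, Q, S} _ (fun i hi => by rw [hesupp i hi, mul_zero]),
      sum_insert (by simp [hP0.symm, hQ0.symm, Ne.symm hS0]), sum_insert (by simp [hPQ, Ne.symm hSP]),
      sum_pair (Ne.symm hSQ), h.e0, hePb, heQb]
    ring
  -- the inner products of `a`
  have h1 := inb a
  rw [h.ab] at h1
  have h2 := ine a
  rw [h.ae, h.a0] at h2
  have hle : 1 + a P * a P + a Q * a Q + a W * a W + a S * a S ≤ 3 := by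
    have := sq_sum_le {i₀, P, Q, W, S} a
    rw [h.aa, sum_insert (by simp [hP0.symm, hQ0.symm, hW0.symm, Ne.symm hS0]),
      sum_insert (by simp [hPQ, hPW, Ne.symm hSP]), sum_insert (by simp [hQW, Ne.symm hSQ]),
      sum_pair (Ne.symm hSW), h.a0] at this
    linarith
  by_cases hWS : a W ≠ 0 ∨ a S ≠ 0
  · exfalso
    have hPz : a P = 0 ∧ a Q = 0 ∧ a W = b W ∧ a S = e S := by
      have q1 := prod_bound (h.ea P) (h.eb P)
      have q3 := prod_bound (h.ea W) (h.eb W)
      have q4 := prod_bound (h.ea S) (h.ee' S)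
      rw [haQ, zero_mul] at h1 h2
      have hWS' : a W * a W = 1 ∨ a S * a S = 1 := hWS.imp (mul_self_of_ne (h.ea W)) (mul_self_of_ne (h.ea S))
      have nW : a W * b W = 0 → a W = 0 := fun ht => by
        rw [eq_mul_of_sq hbW ((mul_comm _ _).trans ht), zero_mul]
      have nS : a S * e S = 0 → a S = 0 := fun ht => by
        rw [eq_mul_of_sq heS ((mul_comm _ _).trans ht), zero_mul]
      have hW1 : a W * b W ≠ 0 := by
        intro ht
        have hs' : a S * e S = 0 := by omega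
        rcases hWS with h' | h'
        exacts [h' (nW ht), h' (nS hs')]
      have hP1 : a P = 0 := by
        by_contra hP
        have := mul_self_of_ne (h.ea P) hP
        have := mul_self_of_ne (h.ea W) (fun e' => hW1 (by rw [e', zero_mul]))
        have hS1 : a S ≠ 0 := fun e' => by rw [e', zero_mul] at h2 q4; omega
        have := mul_self_of_ne (h.ea S) hS1
        linarith [mul_self_nonneg (a Q)]
      rw [hP1, zero_mul] at h1 h2
      refine ⟨hP1, haQ, ?_, ?_⟩
      · rw [eq_mul_of_sq hbW ((mul_comm _ _).trans (by linarith : a W * b W = 1)), one_mul]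
      · rw [eq_mul_of_sq heS ((mul_comm _ _).trans (by linarith : a S * e S = 1)), one_mul]
    obtain ⟨haP, haQ, haW, haS⟩ := hPz
    have hsub : ({i₀, W, S} : Finset ι) = univ.filter fun i => a i ≠ 0 := by
      refine eq_of_subset_of_card_le (fun i hi => ?_) (le_of_eq ?_)
      · simp only [mem_insert, mem_singleton] at hi
        simp only [mem_filter, mem_univ, true_and]
        rcases hi with rfl | rfl | rfl
        · rw [h.a0]; norm_num
        · rw [haW]; exact hne _ (by simp)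
        · rw [haS]; exact heS0
      · rw [card_supp (n := 3) h.aa h.ea, card_insert_of_notMem (by simp [hW0.symm, Ne.symm hS0]),
          card_pair (Ne.symm hSW)]
    have hc := h.ca
    rw [sum_eq_of_supp {i₀, W, S} _ (fun i hi => by
        rw [hsub] at hi; simp at hi; rw [hi, mul_zero]),
      sum_insert (by simp [hW0.symm, Ne.symm hS0]), sum_pair (Ne.symm hSW), h.c0, haW, haS] at hc
    have h3 := inb c
    rw [h.cb] at h3
    have h4 := ine c
    rw [h.ce, h.c0] at h4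
    omega
  push Not at hWS
  obtain ⟨haW, haS⟩ := hWS
  rw [haW] at h1 hle
  rw [haS] at h2 hle
  have haP : a P = b P := by
    rw [haQ, zero_mul, zero_mul, add_zero, add_zero] at h1
    rw [eq_mul_of_sq hbP ((mul_comm _ _).trans h1.symm), one_mul]
  obtain ⟨Y, hY⟩ : ∃ Y, (univ.filter fun i => a i ≠ 0) \ {i₀, P} = {Y} := by
    refine card_eq_one.mp ?_
    rw [card_sdiff_of_subset, card_supp (n := 3) h.aa h.ea, card_pair hP0.symm]
    intro i hi
    simp only [mem_insert, mem_singleton] at hi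
    simp only [mem_filter, mem_univ, true_and]
    rcases hi with rfl | rfl
    · rw [h.a0]; norm_num
    · rw [haP]; exact hne _ (by simp)
  have hY' : Y ∈ (univ.filter fun i => a i ≠ 0) \ {i₀, P} := hY ▸ mem_singleton_self Y
  simp only [mem_sdiff, mem_filter, mem_univ, true_and, mem_insert, mem_singleton, not_or] at hY'
  obtain ⟨haY0, hY0, hYP⟩ := hY'
  have hYQ : Y ≠ Q := fun e' => haY0 (e' ▸ haQ)
  have hYW : Y ≠ W := fun e' => haY0 (e' ▸ haW)
  have hYS : Y ≠ S := fun e' => haY0 (e' ▸ haS)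
  have hasupp : ∀ i, i ∉ ({i₀, P, Y} : Finset ι) → a i = 0 := fun i hi => by
    simp only [mem_insert, mem_singleton, not_or] at hi
    by_contra hcon
    have : i ∈ (univ.filter fun i => a i ≠ 0) \ {i₀, P} := by simp [hcon, hi.1, hi.2.1]
    exact hi.2.2 (mem_singleton.mp (hY ▸ this))
  have haY := mul_self_of_ne (h.ea Y) haY0
  have k1 := inb d
  rw [h.db] at k1
  have k2 := ine d
  rw [h.de, h.d0] at k2
  have k3 := h.da
  rw [sum_eq_of_supp {i₀, P, Y} _ (fun i hi => by rw [hasupp i hi, mul_zero]),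
    sum_insert (by simp [hP0.symm, Ne.symm hY0]), sum_pair (Ne.symm hYP), h.d0, haP, zero_mul, zero_add] at k3
  have k4 : d P * d P + d Q * d Q + d W * d W + d S * d S + d Y * d Y ≤ 2 := by
    have := sq_sum_le {P, Q, W, S, Y} d
    rw [h.dd, sum_insert (by simp [hPQ, hPW, Ne.symm hSP, Ne.symm hYP]),
      sum_insert (by simp [hQW, Ne.symm hSQ, Ne.symm hYQ]), sum_insert (by simp [Ne.symm hSW, Ne.symm hYW]),
      sum_pair (Ne.symm hYS)] at this
    linarith
  have hd : d P = 0 ∧ d Q = 0 ∧ d W = 0 ∧ d S = 0 ∧ d Y = 0 := by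
    have sq : ∀ {t s : ℤ}, s * s = 1 → (t * s) * (t * s) = t * t := fun {t s} hs => by
      linear_combination (t * t) * hs
    obtain ⟨hX0, hT0, hU0, hV0, hZ0⟩ := small_solution (X := d P * b P) (T := d Q * b Q) (U := d W * b W)
      (V := d S * e S) (Z := d Y * a Y) k1.symm (by linarith) k3
      (by rw [sq hbP, sq hbQ, sq hbW, sq heS, sq haY]; exact k4)
    have hz : ∀ {t s : ℤ}, s * s = 1 → t * s = 0 → t = 0 := fun {t s} hs ht => by
      rcases mul_eq_zero.mp ht with h' | h'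
      · exact h'
      · rw [h'] at hs; norm_num at hs
    exact ⟨hz hbP hX0, hz hbQ hT0, hz hbW hU0, hz heS hV0, hz haY hZ0⟩
  refine ⟨P, Q, W, S, Y, ?_, ?_, hsupp, hesupp, hasupp, hbP, hbQ, hbW, heS, haY, haP, hePb, heQb, hd⟩
  · simp [hP0.symm, hQ0.symm, hW0.symm, Ne.symm hS0, Ne.symm hY0]
  · rw [card_insert_of_notMem (by simp [hPQ, hPW, Ne.symm hSP, Ne.symm hYP]),
      card_insert_of_notMem (by simp [hQW, Ne.symm hSQ, Ne.symm hYQ]),
      card_insert_of_notMem (by simp [Ne.symm hSW, Ne.symm hYW]), card_pair (Ne.symm hYS)]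

/-- The two rational equations. -/
theorem Frame.equations (h : Frame i₀ a b c d e f) (v : ι → ℤ)
    (hv : ∀ i, v i = 3 * a i + 3 * b i - 2 * e i + 2 * d i) :
    ∃ P r : ℤ, P ≠ 0 ∧ P + 1 ≠ 0 ∧ r ≠ 0 ∧ r + 1 ≠ 0 ∧
      ((P : ℚ) * (P + 1)) * ∑ i, (a i : ℚ) * (v i) ^ 2 / f i = ((P : ℚ) + 4) ^ 2 ∧
      ((r : ℚ) * (r + 1)) * (∑ i, (e i : ℚ) * (v i) ^ 2 / f i - ∑ i, (b i : ℚ) * (v i) ^ 2 / f i) =
        ((r : ℚ) + 3) ^ 2 := by
  obtain ⟨P, Q, W, S, Y, hi₀, hcard, hb, he, ha, hbP, hbQ, hbW, heS, haY, haP, hePb, heQb, dP, dQ, dW, dS, dY⟩ :=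
    h.shape
  simp only [mem_insert, mem_singleton, not_or] at hi₀
  obtain ⟨n1, n2, n3, n4, n5⟩ := hi₀
  have hd : ({P, Q, W, S, Y} : Finset ι) = [P, Q, W, S, Y].toFinset := by simp
  rw [hd] at hcard
  have hnd : [P, Q, W, S, Y].Nodup := List.toFinset_card_of_nodup (l := [P, Q, W, S, Y]) |> fun _ => List.card_toFinset _ |>.symm.trans hcard |> fun hh => List.dedup_eq_self.mp ((List.dedup_sublist _).eq_of_length hh)
  simp only [List.nodup_cons, List.mem_cons, List.not_mem_nil, or_false, not_or, List.nodup_nil,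
    and_true, not_false_eq_true] at hnd
  obtain ⟨⟨pq, pw, ps, py⟩, ⟨qw, qs, qy⟩, ⟨ws, wy⟩, sy⟩ := hnd
  have sa : ∀ g : ι → ℚ, ∑ i, (a i : ℚ) * g i = g i₀ + b P * g P + a Y * g Y := fun g => by
    rw [sum_eq_of_supp {i₀, P, Y} _ (fun i hi => by rw [ha i hi, Int.cast_zero, zero_mul]),
      sum_insert (by simp [n1, n5]), sum_pair py, h.a0, haP, Int.cast_one, one_mul]
    ring
  have sb : ∀ g : ι → ℚ, ∑ i, (b i : ℚ) * g i = b P * g P + b Q * g Q + b W * g W := fun g => by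
    rw [sum_eq_of_supp {P, Q, W} _ (fun i hi => by rw [hb i hi, Int.cast_zero, zero_mul]),
      sum_insert (by simp [pq, pw]), sum_pair qw]
    ring
  have se : ∀ g : ι → ℚ, ∑ i, (e i : ℚ) * g i = g i₀ + b P * g P + b Q * g Q + e S * g S := fun g => by
    rw [sum_eq_of_supp {i₀, P, Q, S} _ (fun i hi => by rw [he i hi, Int.cast_zero, zero_mul]),
      sum_insert (by simp [n1, n2, n4]), sum_insert (by simp [pq, ps]), sum_pair qs, h.e0, hePb, heQb,
      Int.cast_one, one_mul]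
    ring
  have da := sa fun i => (f i : ℚ)
  have db := sb fun i => (f i : ℚ)
  have de := se fun i => (f i : ℚ)
  rw [show ∑ i, (a i : ℚ) * f i = 0 by exact_mod_cast h.af, h.f0] at da
  rw [show ∑ i, (b i : ℚ) * f i = 0 by exact_mod_cast h.bf] at db
  rw [show ∑ i, (e i : ℚ) * f i = 0 by exact_mod_cast h.ef, h.f0] at de
  have bW0 : b i₀ = 0 := h.b0
  have v0 : v i₀ = 1 := by rw [hv, h.a0, h.b0, h.e0, h.d0]; norm_num
  have vP : v P = 4 * b P := by rw [hv, haP, hePb, dP]; ring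
  have vY : v Y = 3 * a Y := by
    rw [hv, dY, hb Y (by simp [Ne.symm py, Ne.symm qy, Ne.symm wy]),
      he Y (by simp [Ne.symm n5, Ne.symm py, Ne.symm qy, Ne.symm sy])]
    ring
  have vW : v W = 3 * b W := by
    rw [hv, dW, ha W (by simp [Ne.symm n3, Ne.symm pw, wy]),
      he W (by simp [Ne.symm n3, Ne.symm pw, Ne.symm qw, ws])]
    ring
  have vS : v S = -2 * e S := by
    rw [hv, dS, ha S (by simp [Ne.symm n4, Ne.symm ps, sy]),
      hb S (by simp [Ne.symm ps, Ne.symm qs, Ne.symm ws])]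
    ring
  have vQ : v Q = b Q := by
    rw [hv, dQ, ha Q (by simp [Ne.symm n2, Ne.symm pq, qy]), heQb]; ring
  have hfP := h.fpos P
  have hfY := h.fpos Y
  have hfW := h.fpos W
  have hfS := h.fpos S
  have hfQ := h.fpos Q
  refine ⟨b P * f P, b P * f P + b Q * f Q, mul_ne_zero (by rintro e'; simp [e'] at hbP) hfP,
    ?_, ?_, ?_, ?_, ?_⟩
  · intro hz
    have : (a Y : ℚ) * f Y = 0 := by
      have hz' : ((b P : ℚ) * f P + 1) = 0 := by exact_mod_cast hz
      push_cast at da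
      linarith
    exact mul_ne_zero (show a Y ≠ 0 by rintro e'; simp [e'] at haY) hfY (by exact_mod_cast this)
  · intro hz
    have : (b W : ℚ) * f W = 0 := by
      have hz' : ((b P : ℚ) * f P + b Q * f Q) = 0 := by exact_mod_cast hz
      linarith
    exact mul_ne_zero (show b W ≠ 0 by rintro e'; simp [e'] at hbW) hfW (by exact_mod_cast this)
  · intro hz
    have : (e S : ℚ) * f S = 0 := by
      have hz' : ((b P : ℚ) * f P + b Q * f Q + 1) = 0 := by exact_mod_cast hz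
      push_cast at de
      linarith
    exact mul_ne_zero (show e S ≠ 0 by rintro e'; simp [e'] at heS) hfS (by exact_mod_cast this)
  · rw [show ∑ i, (a i : ℚ) * (v i : ℚ) ^ 2 / f i = ∑ i, (a i : ℚ) * ((v i : ℚ) ^ 2 / f i) from
        sum_congr rfl fun i _ => mul_div_assoc _ _ _, sa, v0, vP, vY, h.f0]
    push_cast
    push_cast at da
    have e1 : (b P : ℚ) * b P = 1 := by exact_mod_cast hbP
    have e2 : (a Y : ℚ) * a Y = 1 := by exact_mod_cast haY
    have hq1 : (f P : ℚ) ≠ 0 := by exact_mod_cast hfP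
    have hq2 : (f Y : ℚ) ≠ 0 := by exact_mod_cast hfY
    have hY' : (a Y : ℚ) * (3 * a Y) ^ 2 / f Y * ((b P : ℚ) * f P + 1) = -9 := by
      have : (b P : ℚ) * f P + 1 = -((a Y : ℚ) * f Y) := by linarith
      rw [this]; field_simp; linear_combination -9 * ((a Y : ℚ) * a Y + 1) * e2
    have hP' : (b P : ℚ) * (4 * b P) ^ 2 / f P * ((b P : ℚ) * f P) = 16 := by
      field_simp; linear_combination 16 * ((b P : ℚ) * b P + 1) * e1
    rw [mul_div_assoc] at hY' hP'
    linear_combination ((b P : ℚ) * f P + 1) * hP' + ((b P : ℚ) * f P) * hY'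
  · simp only [mul_div_assoc]
    rw [se, sb, v0, vP, vQ, vW, vS, h.f0]
    push_cast
    push_cast at de
    have e2 : (b W : ℚ) * b W = 1 := by exact_mod_cast hbW
    have e3 : (e S : ℚ) * e S = 1 := by exact_mod_cast heS
    have hq1 : (f W : ℚ) ≠ 0 := by exact_mod_cast hfW
    have hq2 : (f S : ℚ) ≠ 0 := by exact_mod_cast hfS
    have hW' : (b W : ℚ) * (3 * b W) ^ 2 / f W * ((b P : ℚ) * f P + b Q * f Q) = -9 := by
      have : (b P : ℚ) * f P + b Q * f Q = -((b W : ℚ) * f W) := by linarith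
      rw [this]; field_simp; linear_combination -9 * ((b W : ℚ) * b W + 1) * e2
    have hS' : (e S : ℚ) * (-2 * e S) ^ 2 / f S * ((b P : ℚ) * f P + b Q * f Q + 1) = -4 := by
      have : (b P : ℚ) * f P + b Q * f Q + 1 = -((e S : ℚ) * f S) := by linarith
      rw [this]; field_simp; linear_combination -4 * ((e S : ℚ) * e S + 1) * e3
    rw [mul_div_assoc] at hW' hS'
    linear_combination ((b P : ℚ) * f P + b Q * f Q) * hS' - ((b P : ℚ) * f P + b Q * f Q + 1) * hW'

end CfsgLib.GLTwoThreeCent
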