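import Mathlib

/-!
# The two solutions of the order equations
-/

set_option autoImplicit false

namespace CfsgLib.GLTwoThreeCent

theorem bound_of_sq {g x N u w m : ℤ} (hm : 0 < m) (hN : 0 < N) (hu : u ≠ 0)
    (hmu : m = u * u) (hx : x ≠ 0)
    (h : g * (x * x) = N * (x * x + w * x + u)) : x * x ≤ N * m := by
  have hd : x * x ∣ N * (w * x + u) := ⟨g - N, by linarith⟩
  have hd2 : x * x ∣ N * m := by
    have h1 : x * x ∣ N * (w * x + u) * (u - w * x) := hd.mul_right _
    have h2 : x * x ∣ N * (w * w) * (x * x) := dvd_mul_left _ _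
    have := h1.add h2
    rwa [show N * (w * x + u) * (u - w * x) + N * (w * w) * (x * x) = N * (u * u) by ring, ← hmu] at this
  exact Int.le_of_dvd (mul_pos hN hm) hd2

theorem first_table : ∀ i : Fin 2305,
    let x : ℤ := (i.val : ℤ) - 1152
    x = 0 ∨ 9216 * (x * x + (-7) * x + 12) % (x * x) ≠ 0 ∨
      (9216 * (x * x + (-7) * x + 12) / (x * x)) % 48 ≠ 0 ∨
      (9216 * (x * x + (-7) * x + 12) / (x * x)) % 32 = 0 ∨
      (9216 * (x * x + (-7) * x + 12) / (x * x)) ∈ ([5616, 7920, 10608, 13680] : List ℤ) := by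
  decide +kernel

theorem second_table : ∀ i : Fin 815,
    let x : ℤ := (i.val : ℤ) - 407
    10608 * (x * x) ≠ 4608 * (x * x + (-5) * x + 6) ∧ 13680 * (x * x) ≠ 4608 * (x * x + (-5) * x + 6) := by
  decide +kernel

theorem solve {g : ℕ} {P r : ℤ} (h48 : 48 ∣ g) (h32 : ¬ 32 ∣ g)
    (hP : (g : ℤ) * ((P + 4) * (P + 4)) = 9216 * (P * (P + 1)))
    (hr : (g : ℤ) * ((r + 3) * (r + 3)) = 4608 * (r * (r + 1))) : g = 5616 ∨ g = 7920 := by
  set x := P + 4 with hx
  have hP' : (g : ℤ) * (x * x) = 9216 * (x * x + (-7) * x + 12) := by rw [hP, hx]; ring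
  have hx0 : x ≠ 0 := fun h => by rw [h] at hP'; norm_num at hP'
  have hxb := bound_of_sq (m := 144) (by norm_num) (by norm_num) (by norm_num) (by norm_num) hx0 hP'
  have h1 : -1152 ≤ x := by nlinarith
  have h2 : x ≤ 1152 := by nlinarith
  have hg : (g : ℤ) ∈ ([5616, 7920, 10608, 13680] : List ℤ) := by
    have ht := first_table ⟨(x + 1152).toNat, by omega⟩
    have e : (((x + 1152).toNat : ℕ) : ℤ) - 1152 = x := by omega
    simp only [e] at ht
    have hq : 9216 * (x * x + (-7) * x + 12) / (x * x) = g := by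
      rw [← hP', Int.mul_ediv_cancel _ (mul_ne_zero hx0 hx0)]
    have hm : 9216 * (x * x + (-7) * x + 12) % (x * x) = 0 := by
      rw [← hP', Int.mul_emod_left]
    rw [hq, hm] at ht
    rcases ht with h | h | h | h | h
    · exact absurd h hx0
    · exact absurd rfl h
    · exact absurd (Int.emod_eq_zero_of_dvd (Int.natCast_dvd_natCast.mpr h48)) h
    · exact absurd (Int.natCast_dvd_natCast.mp (Int.dvd_of_emod_eq_zero h)) h32
    · exact h
  simp only [List.mem_cons, List.not_mem_nil, or_false] at hg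
  set y := r + 3 with hy
  have hr' : (g : ℤ) * (y * y) = 4608 * (y * y + (-5) * y + 6) := by rw [hr, hy]; ring
  have hy0 : y ≠ 0 := fun h => by rw [h] at hr'; norm_num at hr'
  have hyb := bound_of_sq (m := 36) (by norm_num) (by norm_num) (by norm_num) (by norm_num) hy0 hr'
  have h3 : -407 ≤ y := by nlinarith
  have h4 : y ≤ 407 := by nlinarith
  have ht := second_table ⟨(y + 407).toNat, by omega⟩
  have e : (((y + 407).toNat : ℕ) : ℤ) - 407 = y := by omega
  simp only [e] at ht
  rcases hg with h | h | h | h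
  · exact Or.inl (by exact_mod_cast h)
  · exact Or.inr (by exact_mod_cast h)
  · exact absurd (h ▸ hr') ht.1
  · exact absurd (h ▸ hr') ht.2

end CfsgLib.GLTwoThreeCent
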