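import Cfsg.Agent.Lib.GLTwoThreeCent.Model
import Cfsg.Agent.Lib.GLTwoThreeCent.Combin
import Cfsg.Agent.Lib.GLTwoThreeCent.Dioph
import Cfsg.Agent.Lib.Char.TI
import Cfsg.Agent.Lib.Char.Counting
import Cfsg.Agent.Lib.Blocks.PairConj
import Cfsg.Agent.Lib.ZStar.Main

/-!
# Simple groups in which an involution has centralizer `GL(2,3)`
-/

set_option autoImplicit false
set_option linter.unusedSectionVars false

namespace CfsgLib.GLTwoThreeCent

open Cfsg CfsgLib
open scoped ComplexConjugate CfsgLib.Char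

/-- The square root of minus two in the complex numbers. -/
noncomputable def phi : ℤ√(-2) →+* ℂ :=
  Zsqrtd.lift ⟨Complex.I * (Real.sqrt 2 : ℂ), by
    rw [show Complex.I * (Real.sqrt 2 : ℂ) * (Complex.I * (Real.sqrt 2 : ℂ)) =
      Complex.I * Complex.I * ((Real.sqrt 2 * Real.sqrt 2 : ℝ) : ℂ) by push_cast; ring,
      Complex.I_mul_I, Real.mul_self_sqrt (by norm_num)]
    simp⟩

theorem phi_apply (z : ℤ√(-2)) : phi z = z.re + z.im * (Complex.I * (Real.sqrt 2 : ℂ)) := by
  simp [phi, Zsqrtd.lift]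

theorem phi_star (z : ℤ√(-2)) : phi (star z) = conj (phi z) := by
  rw [phi_apply, phi_apply, Zsqrtd.re_star, Zsqrtd.im_star]
  simp [Complex.conj_ofReal]

variable {G : Type*} [Group G]

/-- An identification of the centralizer of an involution with the model. -/
structure Coord (t : G) where
  E : Fin 48 ≃ Subgroup.centralizer ({t} : Set G)
  mul : ∀ i j, E (mulI i j) = E i * E j
  neg : (E negI : G) = t

variable {t : G} (K : Coord t)
include K

theorem Coord.zero : K.E 0 = 1 := by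
  have h := K.mul 0 0
  rw [show mulI 0 0 = 0 by decide +kernel] at h
  exact mul_eq_left.mp h.symm

/-- The function on the centralizer attached to a function on the model. -/
noncomputable def Coord.fn (F : Fin 48 → ℤ√(-2)) (x : Subgroup.centralizer ({t} : Set G)) : ℂ :=
  phi (F (K.E.symm x))

theorem Coord.fn_apply (F : Fin 48 → ℤ√(-2)) (i : Fin 48) : K.fn F (K.E i) = phi (F i) := by
  simp [Coord.fn]

theorem Coord.symm_mul (x y : Subgroup.centralizer ({t} : Set G)) :
    K.E.symm (x * y) = mulI (K.E.symm x) (K.E.symm y) :=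
  K.E.symm_apply_eq.mpr (by rw [K.mul, Equiv.apply_symm_apply, Equiv.apply_symm_apply])

theorem Coord.symm_one : K.E.symm 1 = 0 := K.E.symm_apply_eq.mpr K.zero.symm

theorem Coord.iterate (i : Fin 48) (k : ℕ) : K.E ((mulI i)^[k] i) = K.E i ^ (k + 1) := by
  induction k with
  | zero => simp
  | succ k ih => rw [Function.iterate_succ_apply', K.mul, ih, ← pow_succ']

/-- The matrices of the representation. -/
noncomputable def Coord.repHom (ψ : ℤ√(-2) →+* ℂ) :
    Subgroup.centralizer ({t} : Set G) →* Matrix (Fin 2) (Fin 2) ℂ where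
  toFun x := !![ψ (rep (K.E.symm x)).1, ψ (rep (K.E.symm x)).2.1;
    ψ (rep (K.E.symm x)).2.2.1, ψ (rep (K.E.symm x)).2.2.2]
  map_one' := by
    rw [K.symm_one, rep_zero, Matrix.one_fin_two]
    simp
  map_mul' x y := by
    rw [K.symm_mul, rep_mulI, Matrix.mul_fin_two]
    obtain ⟨a, b, c, d⟩ := rep (K.E.symm x)
    obtain ⟨a', b', c', d'⟩ := rep (K.E.symm y)
    simp [qmul, map_add, map_mul]

theorem Coord.isCharacter_tau (ψ : ℤ√(-2) →+* ℂ) :
    IsCharacter (Subgroup.centralizer ({t} : Set G)) (fun x => ψ (tau (K.E.symm x))) := by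
  let ρ : Representation ℂ (Subgroup.centralizer ({t} : Set G)) (Fin 2 → ℂ) :=
    (Matrix.toLinAlgEquiv' (R := ℂ) (n := Fin 2)).toAlgHom.toRingHom.toMonoidHom.comp (K.repHom ψ)
  have h : ρ.character = fun x => ψ (tau (K.E.symm x)) := funext fun x => by
    show LinearMap.trace ℂ _ (Matrix.toLinAlgEquiv' (K.repHom ψ x)) = _
    rw [show Matrix.toLinAlgEquiv' (K.repHom ψ x) = Matrix.toLin' (K.repHom ψ x) from rfl,
      Matrix.trace_toLin'_eq]
    simp [Coord.repHom, Matrix.trace_fin_two, tau]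
  exact h ▸ Char.isCharacter_character ρ

theorem Coord.isCharacter_eps : IsCharacter (Subgroup.centralizer ({t} : Set G)) (K.fn eps) := by
  let ρ : Representation ℂ (Subgroup.centralizer ({t} : Set G)) (Fin 1 → ℂ) :=
    (Algebra.lsmul ℂ ℂ (Fin 1 → ℂ)).toRingHom.toMonoidHom.comp (Matrix.detMonoidHom.comp (K.repHom phi))
  have h : ρ.character = K.fn eps := funext fun x => by
    show LinearMap.trace ℂ _ (Algebra.lsmul ℂ ℂ (Fin 1 → ℂ) ((K.repHom phi x).det)) = _
    rw [show Algebra.lsmul ℂ ℂ (Fin 1 → ℂ) ((K.repHom phi x).det) =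
      ((K.repHom phi x).det) • (LinearMap.id : (Fin 1 → ℂ) →ₗ[ℂ] _) from rfl, map_smul, LinearMap.trace_id]
    simp [Coord.repHom, Coord.fn, Matrix.det_fin_two_of, eps]
  exact h ▸ Char.isCharacter_character ρ

/-- The generalized characters needed. -/
theorem Coord.isGeneralized_all :
    IsGeneralizedCharacter _ (K.fn thA) ∧ IsGeneralizedCharacter _ (K.fn thB) ∧
      IsGeneralizedCharacter _ (K.fn thC) ∧ IsGeneralizedCharacter _ (K.fn thD) ∧
      IsGeneralizedCharacter _ (K.fn thE) := by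
  have hτ : IsGeneralizedCharacter _ (K.fn tau) :=
    Char.isGeneralized_of_isCharacter (K.isCharacter_tau phi)
  have hτ' : IsGeneralizedCharacter _ (K.fn fun i => star (tau i)) :=
    Char.isGeneralized_of_isCharacter (K.isCharacter_tau (phi.comp (starRingEnd (ℤ√(-2)))))
  have hε : IsGeneralizedCharacter _ (K.fn eps) := Char.isGeneralized_of_isCharacter K.isCharacter_eps
  have h1 : IsGeneralizedCharacter (Subgroup.centralizer ({t} : Set G)) (K.fn 1) := by
    convert Char.isGeneralized_one (G := Subgroup.centralizer ({t} : Set G)) using 1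
    funext x; simp [Coord.fn]
  have hadd : ∀ {F F'}, IsGeneralizedCharacter _ (K.fn F) → IsGeneralizedCharacter _ (K.fn F') →
      IsGeneralizedCharacter _ (K.fn (F + F')) := fun h h' => by
    convert Char.isGeneralized_add h h' using 1
    funext x; simp [Coord.fn]
  have hsub : ∀ {F F'}, IsGeneralizedCharacter _ (K.fn F) → IsGeneralizedCharacter _ (K.fn F') →
      IsGeneralizedCharacter _ (K.fn (F - F')) := fun h h' => by
    convert Char.isGeneralized_sub h h' using 1
    funext x; simp [Coord.fn]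
  have hmul : ∀ {F F'}, IsGeneralizedCharacter _ (K.fn F) → IsGeneralizedCharacter _ (K.fn F') →
      IsGeneralizedCharacter _ (K.fn (F * F')) := fun h h' => by
    convert Char.isGeneralized_mul h h' using 1
    funext x; simp [Coord.fn]
  have hP : IsGeneralizedCharacter _ (K.fn threeP) := hsub (hmul hτ hτ') h1
  have h3 : IsGeneralizedCharacter _ (K.fn three) := hmul hε hP
  have h2 : IsGeneralizedCharacter _ (K.fn two) := hsub (hsub (hsub (hmul hP hP) h1) h3) hP
  have h4 : IsGeneralizedCharacter _ (K.fn four) := hmul hτ h2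
  exact ⟨hsub (hadd h1 hP) h4, hsub (hadd hε h3) h4, hsub h2 hτ, hsub h2 hτ', hsub (hadd (hadd h1 hε) hτ) h4⟩

/-- The model elements with `t` as a power. -/
theorem Coord.special_mem {i : Fin 48} (h : special i) : ∃ k : ℕ, (K.E i : G) ^ k = t := by
  obtain ⟨k, hk⟩ := h
  refine ⟨k.val + 1, ?_⟩
  have h := K.neg
  rw [← hk, K.iterate, Subgroup.coe_pow] at h
  exact h

theorem Coord.vanish_off (F : Fin 48 → ℤ√(-2)) (hF : ∀ i, ¬ special i → F i = 0)
    (x : Subgroup.centralizer ({t} : Set G)) (hx : (x : G) ∉ {y : G | ∃ k : ℕ, y ^ k = t}) :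
    K.fn F x = 0 := by
  rw [Coord.fn, hF _ fun h => hx (by simpa using K.special_mem h), map_zero]

theorem Coord.sum_eq [Fintype G] {R : Type*} [AddCommMonoid R]
    [Fintype (Subgroup.centralizer ({t} : Set G))] (f : Subgroup.centralizer ({t} : Set G) → R) :
    ∑ x, f x = ∑ i, f (K.E i) := (Equiv.sum_comp K.E f).symm

theorem Coord.card_eq : Nat.card (Subgroup.centralizer ({t} : Set G)) = 48 := by
  rw [← Nat.card_congr K.E, Nat.card_fin]

theorem Coord.classInner_fn [Fintype G] [Fintype (Subgroup.centralizer ({t} : Set G))]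
    (F F' : Fin 48 → ℤ√(-2)) : classInner (K.fn F) (K.fn F') = (48 : ℂ)⁻¹ * phi (ip F F') := by
  rw [classInner, K.card_eq, K.sum_eq, ip, map_sum]
  congr 1
  refine Finset.sum_congr rfl fun i _ => ?_
  rw [K.fn_apply, K.fn_apply, map_mul, phi_star]

theorem Coord.orderOf_neg : orderOf t = 2 := by
  rw [← K.neg, Subgroup.orderOf_coe]
  refine orderOf_eq_prime ?_ fun h => tau_negI.2 (K.E.injective (h.trans K.zero.symm))
  rw [pow_two, ← K.mul, tau_negI.1, K.zero]

/-- Cyclic groups have one involution. -/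
theorem Coord.eq_of_pow {y : G} [Finite G] {u v : G} (hu : orderOf u = 2) (hv : orderOf v = 2)
    {a b : ℕ} (ha : y ^ a = u) (hb : y ^ b = v) : u = v := by
  obtain ⟨c, hc⟩ : ∃ c, orderOf y = c := ⟨_, rfl⟩
  have key : ∀ {d : ℕ} {w : G}, orderOf w = 2 → y ^ d = w → ¬ c ∣ d ∧ c ∣ 2 * d := by
    intro d w hw hd
    refine ⟨fun h => ?_, ?_⟩
    · rw [← hd, orderOf_dvd_iff_pow_eq_one.mp (hc ▸ h), orderOf_one] at hw
      exact absurd hw (by norm_num)
    · rw [← hc, orderOf_dvd_iff_pow_eq_one, mul_comm, pow_mul, hd, ← hw, pow_orderOf_eq_one]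
  obtain ⟨a1, a', ha'⟩ := key hu ha
  obtain ⟨b1, b', hb'⟩ := key hv hb
  rw [← ha, ← hb, pow_eq_pow_iff_modEq, hc]
  have ho : ∀ {d d' : ℕ}, ¬ c ∣ d → 2 * d = c * d' → Odd d' := fun {d d'} h1 h2 => by
    refine Nat.not_even_iff_odd.mp fun ⟨m, hm⟩ => h1 ⟨m, ?_⟩
    subst hm; linarith
  obtain ⟨m, hm⟩ := ho a1 ha'
  obtain ⟨m', hm'⟩ := ho b1 hb'
  subst hm hm'
  rcases le_total m m' with h | h
  · refine (Nat.modEq_iff_dvd' (by nlinarith)).mpr ⟨m' - m, ?_⟩
    obtain ⟨d, rfl⟩ := Nat.exists_eq_add_of_le h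
    rw [Nat.add_sub_cancel_left]
    have : b = a + c * d := by nlinarith
    omega
  · refine ((Nat.modEq_iff_dvd' (by nlinarith)).mpr ⟨m - m', ?_⟩).symm
    obtain ⟨d, rfl⟩ := Nat.exists_eq_add_of_le h
    rw [Nat.add_sub_cancel_left]
    have : a = b + c * d := by nlinarith
    omega

theorem Coord.ti [Finite G] : ∀ g : G, g ∉ Subgroup.centralizer ({t} : Set G) →
    ∀ y ∈ {y : G | ∃ k : ℕ, y ^ k = t}, g * y * g⁻¹ ∈ {y : G | ∃ k : ℕ, y ^ k = t} → y = 1 := by
  rintro g hg y ⟨k, hk⟩ ⟨l, hl⟩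
  refine absurd (Subgroup.mem_centralizer_singleton_iff.mpr ?_) hg
  have h2 : orderOf (g * t * g⁻¹) = 2 := by
    rw [← MulAut.conj_apply, MulEquiv.orderOf_eq, K.orderOf_neg]
  exact mul_inv_eq_iff_eq_mul.mp (K.eq_of_pow h2 K.orderOf_neg (by rw [conj_pow, hk]) hl)

omit K in
theorem mul_self_of_isConj {u : G} (ht : orderOf t = 2) (h : IsConj t u) : u * u = 1 ∧ u ≠ 1 := by
  obtain ⟨g, rfl⟩ := isConj_iff.mp h
  have : orderOf (g * t * g⁻¹) = 2 := by rw [← MulAut.conj_apply, MulEquiv.orderOf_eq, ht]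
  exact ⟨by rw [← pow_two, ← this, pow_orderOf_eq_one], fun h1 => by rw [h1, orderOf_one] at this; norm_num at this⟩

theorem Coord.invol_iff (i : Fin 48) : invol i ↔ ((K.E i : G) * K.E i = 1 ∧ (K.E i : G) ≠ 1) := by
  have h1 : ∀ j, (K.E j : G) = 1 ↔ j = 0 := fun j =>
    ⟨fun h => K.E.injective (Subtype.ext (h.trans (congrArg Subtype.val K.zero).symm)),
      fun h => by rw [h, K.zero, Subgroup.coe_one]⟩
  rw [invol, Ne, Ne, ← h1, ← h1, K.mul, Subgroup.coe_mul]

/-- All involutions of the centralizer are conjugate to `t`. -/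
theorem Coord.conj_of_invol [Finite G] [IsSimpleGroup G] (hG : ¬ IsMulCommutative G) {i : Fin 48}
    (hi : invol i) : IsConj t (K.E i : G) := by
  by_cases hin : i = negI
  · rw [hin, K.neg]
  by_contra hcon
  have hiso : IsIsolatedInvolution t := by
    refine ⟨K.orderOf_neg, fun g hc => ?_⟩
    by_contra hne
    obtain ⟨j, hj⟩ := K.E.surjective
      ⟨g * t * g⁻¹, Subgroup.mem_centralizer_singleton_iff.mpr hc.symm.eq⟩
    have hj' : (K.E j : G) = g * t * g⁻¹ := congrArg Subtype.val hj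
    have hinv : invol j := (K.invol_iff j).mpr (by
      rw [hj']; exact mul_self_of_isConj K.orderOf_neg (isConj_iff.mpr ⟨g, rfl⟩))
    obtain ⟨k, hk⟩ := one_class i j hi hinv hin (fun e => hne (by rw [← hj', e, K.neg]))
    refine hcon ((isConj_iff.mpr ⟨g, hj'.symm⟩).trans (IsConj.symm ?_))
    refine isConj_iff.mpr ⟨(K.E k : G), mul_inv_eq_iff_eq_mul.mpr ?_⟩
    rw [← Subgroup.coe_mul, ← K.mul, hk, K.mul, Subgroup.coe_mul]
  have hcore := ZStar.commutatorsInCore_of_isolated hiso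
  have hO : pPrimeCore 2 G = ⊥ := by
    haveI := Transfer.pPrimeCore_normal 2 G
    refine (Subgroup.Normal.eq_bot_or_eq_top inferInstance).resolve_right fun h => ?_
    have h2 := Transfer.pPrimeCore_coprime (G := G) 2
    rw [h, Subgroup.card_top] at h2
    exact absurd (Nat.dvd_gcd (K.orderOf_neg ▸ orderOf_dvd_natCard t) dvd_rfl) (by rw [h2.gcd_eq_one]; decide)
  have hcen : t ∈ Subgroup.center G := Subgroup.mem_center_iff.mpr fun g => by
    have := hcore g
    rw [hO, Subgroup.mem_bot, mul_inv_eq_one, mul_inv_eq_iff_eq_mul] at this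
    exact this.symm
  rcases (inferInstance : (Subgroup.center G).Normal).eq_bot_or_eq_top with h | h
  · rw [h, Subgroup.mem_bot] at hcen
    have := K.orderOf_neg
    rw [hcen, orderOf_one] at this
    norm_num at this
  · exact hG ⟨⟨fun a b => Subgroup.mem_center_iff.mp (h ▸ Subgroup.mem_top b) a⟩⟩

/-- The number of involution pairs with a given special product. -/
theorem Coord.count [Finite G] (hfus : ∀ i, invol i → IsConj t (K.E i : G)) {i : Fin 48} (hi : special i) :
    Nat.card {p : G × G // IsConj t p.1 ∧ IsConj t p.2 ∧ p.1 * p.2 = (K.E i : G)} = pairs i := by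
  rw [pairs, ← Fintype.card_coe, ← Nat.card_eq_fintype_card]
  obtain ⟨k, hk⟩ := K.special_mem hi
  have hmem : ∀ p : G × G, IsConj t p.1 → IsConj t p.2 → p.1 * p.2 = (K.E i : G) →
      p.1 ∈ Subgroup.centralizer ({t} : Set G) := by
    rintro ⟨u, v⟩ hu hv huv
    have h1 := (mul_self_of_isConj K.orderOf_neg hu).1
    have h2 := (mul_self_of_isConj K.orderOf_neg hv).1
    have hinv : u * (K.E i : G) * u⁻¹ = (K.E i : G)⁻¹ := by
      rw [← huv, mul_inv_rev, inv_eq_of_mul_eq_one_right h1, inv_eq_of_mul_eq_one_right h2, ← mul_assoc, h1, one_mul]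
    have h3 : u * t * u⁻¹ = t := by
      rw [← hk, ← conj_pow, hinv, inv_pow, hk, inv_eq_of_mul_eq_one_right]
      rw [← pow_two, ← K.orderOf_neg, pow_orderOf_eq_one]
    exact Subgroup.mem_centralizer_singleton_iff.mpr (mul_inv_eq_iff_eq_mul.mp h3)
  have hout : ∀ p : Fin 48, invol p → (K.E (mulI p i) : G) = (K.E p : G) * K.E i := fun p _ => by
    rw [K.mul, Subgroup.coe_mul]
  refine (Nat.card_congr (Equiv.ofBijective
    (fun p : (Finset.univ.filter fun p : Fin 48 => invol p ∧ invol (mulI p i)) =>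
      (⟨((K.E p.1 : G), (K.E (mulI p.1 i) : G)), hfus _ (Finset.mem_filter.mp p.2).2.1,
        hfus _ (Finset.mem_filter.mp p.2).2.2, by
          rw [hout _ (Finset.mem_filter.mp p.2).2.1, ← mul_assoc,
            ((K.invol_iff _).mp (Finset.mem_filter.mp p.2).2.1).1, one_mul]⟩ :
        {p : G × G // IsConj t p.1 ∧ IsConj t p.2 ∧ p.1 * p.2 = (K.E i : G)})) ⟨?_, ?_⟩)).symm
  · intro p q h
    exact Subtype.ext (K.E.injective (Subtype.ext (congrArg (fun r => r.1.1) h)))
  · rintro ⟨⟨u, v⟩, hu, hv, huv⟩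
    obtain ⟨j, hj⟩ := K.E.surjective ⟨u, hmem (u, v) hu hv huv⟩
    have hj' : (K.E j : G) = u := congrArg Subtype.val hj
    have h1 := mul_self_of_isConj K.orderOf_neg hu
    have hv' : (K.E (mulI j i) : G) = v := by
      rw [K.mul, Subgroup.coe_mul, hj', ← huv, ← mul_assoc, h1.1, one_mul]
    exact ⟨⟨j, Finset.mem_filter.mpr ⟨Finset.mem_univ _, (K.invol_iff j).mpr (hj' ▸ h1),
      (K.invol_iff _).mpr (hv' ▸ mul_self_of_isConj K.orderOf_neg hv)⟩⟩, Subtype.ext (Prod.ext hj' hv')⟩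

/-- The order is divisible by 48 and not by 32. -/
theorem Coord.order_two_part [Finite G] (hfus : ∀ i, invol i → IsConj t (K.E i : G)) :
    48 ∣ Nat.card G ∧ ¬ 32 ∣ Nat.card G := by
  refine ⟨K.card_eq ▸ Subgroup.card_subgroup_dvd_card _, fun h32 => ?_⟩
  haveI := Fact.mk Nat.prime_two
  have hp : IsPGroup 2 (Subgroup.zpowers t) :=
    IsPGroup.of_card (n := 1) (by rw [Nat.card_zpowers, K.orderOf_neg, pow_one])
  obtain ⟨P, hP⟩ := hp.exists_le_sylow
  have h32P : 2 ^ 5 ∣ Nat.card (P : Subgroup G) := P.pow_dvd_card_of_pow_dvd_card (by norm_num; exact h32)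
  haveI : Nontrivial P := by
    rw [← Finite.one_lt_card_iff_nontrivial]
    exact lt_of_lt_of_le (by norm_num) (Nat.le_of_dvd Nat.card_pos h32P)
  haveI := P.isPGroup'.center_nontrivial
  obtain ⟨z, hz⟩ := exists_prime_orderOf_dvd_card' 2
    (show 2 ∣ Nat.card (Subgroup.center P) from
      ((P.isPGroup'.to_subgroup _).nontrivial_iff_card.mp inferInstance).elim fun n hn =>
        hn.2 ▸ dvd_pow_self 2 hn.1.ne')
  have hzc : ∀ w ∈ (P : Subgroup G), w * ((z : P) : G) = ((z : P) : G) * w := fun w hw =>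
    congrArg Subtype.val (Subgroup.mem_center_iff.mp z.2 ⟨w, hw⟩)
  have hzo : orderOf ((z : P) : G) = 2 := by rw [Subgroup.orderOf_coe, Subgroup.orderOf_coe, hz]
  obtain ⟨j, hj⟩ := K.E.surjective ⟨((z : P) : G),
    Subgroup.mem_centralizer_singleton_iff.mpr (hzc t (hP (Subgroup.mem_zpowers t))).symm⟩
  have hj' : (K.E j : G) = ((z : P) : G) := congrArg Subtype.val hj
  have hinv : invol j := (K.invol_iff j).mpr (hj' ▸ ⟨by rw [← pow_two]; exact orderOf_dvd_iff_pow_eq_one.mp hzo.dvd,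
    fun h => by rw [h, orderOf_one] at hzo; norm_num at hzo⟩)
  obtain ⟨g, hg⟩ := isConj_iff.mp (hj' ▸ hfus j hinv)
  have hle : (P : Subgroup G).map (MulAut.conj g⁻¹).toMonoidHom ≤ Subgroup.centralizer ({t} : Set G) := by
    rintro _ ⟨w, hw, rfl⟩
    refine Subgroup.mem_centralizer_singleton_iff.mpr ?_
    have h := congrArg (MulAut.conj g⁻¹) (hzc w hw)
    rw [map_mul, map_mul, show (MulAut.conj g⁻¹) ((z : P) : G) = t by rw [← hg]; simp [mul_assoc]] at h
    exact h
  have h := Subgroup.card_dvd_of_le hle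
  rw [Subgroup.card_map_of_injective (MulEquiv.injective _), K.card_eq] at h
  exact absurd (h32P.trans h) (by norm_num)

set_option maxHeartbeats 1000000 in
/-- **The order formula.** -/
theorem Coord.order [Fintype G] [IsSimpleGroup G] (hG : ¬ IsMulCommutative G) :
    Nat.card G = 5616 ∨ Nat.card G = 7920 := by
  set H := Subgroup.centralizer ({t} : Set G) with hH
  letI : Fintype H := Fintype.ofFinite _
  have hfus : ∀ i, invol i → IsConj t (K.E i : G) := fun i hi => K.conj_of_invol hG hi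
  obtain ⟨gA, gB, gC, gD, gE⟩ := K.isGeneralized_all
  -- coefficients
  have hco : ∀ F : Fin 48 → ℤ√(-2), IsGeneralizedCharacter H (K.fn F) → ∃ a : IrrCharacter G → ℤ,
      (∀ χ : IrrCharacter G, classInner (indFun H (K.fn F)) (χ : G → ℂ) = a χ) ∧
      (∀ χ : IrrCharacter G, (48 : ℂ) * a χ = ∑ i, phi (F i) * conj ((χ : G → ℂ) (K.E i))) := by
    intro F hF
    have hg := Char.isGeneralized_indFun H hF
    choose a ha using fun χ : IrrCharacter G =>
      Char.exists_int_classInner hg (Char.isGeneralized_of_isIrr χ.2)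
    refine ⟨a, ha, fun χ => ?_⟩
    rw [← ha χ, Char.frobenius_reciprocity H _ (Blocks.irr_classFunction χ), classInner, K.card_eq,
      K.sum_eq, Nat.cast_ofNat, mul_inv_cancel_left₀ (by norm_num : (48 : ℂ) ≠ 0)]
    exact Finset.sum_congr rfl fun i _ => by rw [K.fn_apply]
  obtain ⟨a, hai, ha⟩ := hco thA gA
  obtain ⟨b, hbi, hb⟩ := hco thB gB
  obtain ⟨c, hci, hc⟩ := hco thC gC
  obtain ⟨d, hdi, hd⟩ := hco thD gD
  obtain ⟨e, hei, he⟩ := hco thE gE
  have hgram : ∀ (F F' : Fin 48 → ℤ√(-2)) (a a' : IrrCharacter G → ℤ) (n : ℤ),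
      (∀ χ : IrrCharacter G, classInner (indFun H (K.fn F)) (χ : G → ℂ) = a χ) →
      (∀ χ : IrrCharacter G, classInner (indFun H (K.fn F')) (χ : G → ℂ) = a' χ) →
      IsGeneralizedCharacter H (K.fn F') →
      (∀ i, ¬ special i → F i = 0) → (∀ i, ¬ special i → F' i = 0) → F 0 = 0 →
      ip F F' = ((48 * n : ℤ) : ℤ√(-2)) → ∑ χ, a χ * a' χ = n := by
    intro F F' a a' n ha ha' hg' hv hv' h0 hip
    have h := Char.classInner_indFun_of_ti H _ K.ti (K.fn F) (K.fn F')
      (Char.isClassFunction_of_isGeneralized hg') (K.vanish_off F hv) (K.vanish_off F' hv')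
      (by rw [Coord.fn, K.symm_one, h0, map_zero])
    conv at h => lhs; rw [Char.classFunction_expansion (Char.isClassFunction_indFun H (K.fn F)),
      Char.classFunction_expansion (Char.isClassFunction_indFun H (K.fn F')),
      Char.classInner_sum_smul_sum_smul]
    rw [K.classInner_fn, hip, map_intCast] at h
    simp only [ha, ha', map_intCast] at h
    have h2 : ((∑ χ, a χ * a' χ : ℤ) : ℂ) = (n : ℂ) := by
      push_cast; rw [h]; push_cast; ring
    exact_mod_cast h2
  have hdeg : ∀ (F : Fin 48 → ℤ√(-2)) (a : IrrCharacter G → ℤ),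
      (∀ χ : IrrCharacter G, classInner (indFun H (K.fn F)) (χ : G → ℂ) = a χ) → F 0 = 0 →
      ∑ χ, a χ * (charDegree (χ : G → ℂ) : ℤ) = 0 := by
    intro F a ha h0
    have h := congrFun (Char.classFunction_expansion (Char.isClassFunction_indFun H (K.fn F))) 1
    rw [Char.indFun_one, Coord.fn, K.symm_one, h0, map_zero, mul_zero, Finset.sum_apply] at h
    have h2 : ((∑ χ, a χ * (charDegree (χ : G → ℂ) : ℤ) : ℤ) : ℂ) = ((0 : ℤ) : ℂ) := by
      rw [Int.cast_sum, Int.cast_zero, h]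
      exact Finset.sum_congr rfl fun χ _ => by
        rw [Pi.smul_apply, smul_eq_mul, ha, (Blocks.irr_degree_eq χ).1, Int.cast_mul, Int.cast_natCast]
    exact_mod_cast h2
  obtain ⟨h11, h22, h44, h55, h12, h15, h25, h41, h42, h45, h31, h32, h35⟩ := gram
  obtain ⟨s1, s2, s4, s5, s3⟩ := with_one
  obtain ⟨o1, o2, o3, o4, o5⟩ := at_one
  have vA := fun i hi => (vanish i hi).1
  have vB := fun i hi => (vanish i hi).2.1
  have vC := fun i hi => (vanish i hi).2.2.1
  have vD := fun i hi => (vanish i hi).2.2.2.1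
  have vE := fun i hi => (vanish i hi).2.2.2.2
  set one : IrrCharacter G := Blocks.trivIrr G with hone
  have hval1 : ∀ (F : Fin 48 → ℤ√(-2)) (a : IrrCharacter G → ℤ) (n : ℤ),
      (∀ χ : IrrCharacter G, (48 : ℂ) * a χ = ∑ i, phi (F i) * conj ((χ : G → ℂ) (K.E i))) →
      (∑ i, F i) = ((48 * n : ℤ) : ℤ√(-2)) → a one = n := by
    intro F a n h hs
    have h1 := h one
    simp only [hone, Blocks.trivIrr, map_one, mul_one] at h1
    rw [← map_sum, hs, map_intCast, Int.cast_mul] at h1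
    have h2 : (a one : ℂ) = (n : ℂ) := mul_left_cancel₀ (by norm_num : (48 : ℂ) ≠ 0) (by simpa [hone, Blocks.trivIrr] using h1)
    exact_mod_cast h2
  have hframe : Frame one a b c d e (fun χ => (charDegree (χ : G → ℂ) : ℤ)) :=
    { aa := hgram _ _ a a 3 hai hai gA vA vA o1 (by rw [h11]; norm_num)
      bb := hgram _ _ b b 3 hbi hbi gB vB vB o2 (by rw [h22]; norm_num)
      dd := hgram _ _ d d 2 hdi hdi gD vD vD o4 (by rw [h44]; norm_num)
      ee := hgram _ _ e e 4 hei hei gE vE vE o5 (by rw [h55]; norm_num)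
      ab := hgram _ _ a b 1 hai hbi gB vA vB o1 (by rw [h12]; norm_num)
      ae := hgram _ _ a e 2 hai hei gE vA vE o1 (by rw [h15]; norm_num)
      be := hgram _ _ b e 2 hbi hei gE vB vE o2 (by rw [h25]; norm_num)
      da := hgram _ _ d a 0 hdi hai gA vD vA o4 (by rw [h41]; norm_num)
      db := hgram _ _ d b 0 hdi hbi gB vD vB o4 (by rw [h42]; norm_num)
      de := hgram _ _ d e 0 hdi hei gE vD vE o4 (by rw [h45]; norm_num)
      ca := hgram _ _ c a 0 hci hai gA vC vA o3 (by rw [h31]; norm_num)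
      cb := hgram _ _ c b 0 hci hbi gB vC vB o3 (by rw [h32]; norm_num)
      ce := hgram _ _ c e (-1) hci hei gE vC vE o3 (by rw [h35]; norm_num)
      a0 := hval1 _ a 1 ha (by rw [s1]; norm_num)
      b0 := hval1 _ b 0 hb (by rw [s2]; norm_num)
      c0 := hval1 _ c 0 hc (by rw [s3]; norm_num)
      d0 := hval1 _ d 0 hd (by rw [s4]; norm_num)
      e0 := hval1 _ e 1 he (by rw [s5]; norm_num)
      f0 := by
        have h := (Blocks.irr_degree_eq one).1
        simp only [hone, Blocks.trivIrr] at h ⊢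
        exact_mod_cast h.symm
      fpos := fun χ => by exact_mod_cast (Blocks.irr_degree_eq χ).2.ne'
      af := hdeg _ a hai o1
      bf := hdeg _ b hbi o2
      ef := hdeg _ e hei o5 }
  -- the values at the involution
  have hvt : ∀ χ : IrrCharacter G, (χ : G → ℂ) t = ((3 * a χ + 3 * b χ - 2 * e χ + 2 * d χ : ℤ) : ℂ) := by
    intro χ
    have h : ∑ i, phi (3 * thA i + 3 * thB i - 2 * thE i + 2 * thD i) * conj ((χ : G → ℂ) (K.E i)) =
        (48 : ℂ) * conj ((χ : G → ℂ) t) := by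
      simp only [at_centre, apply_ite phi, map_zero, ite_mul, zero_mul, Finset.sum_ite_eq', Finset.mem_univ,
        if_true, map_ofNat, K.neg]
    simp only [map_add, map_sub, map_mul, map_ofNat, add_mul, sub_mul, mul_assoc, Finset.sum_add_distrib,
      Finset.sum_sub_distrib, ← Finset.mul_sum, ← ha, ← hb, ← hd, ← he] at h
    have htinv : t⁻¹ = t := inv_eq_of_mul_eq_one_right (by rw [← pow_two, ← K.orderOf_neg, pow_orderOf_eq_one])
    rw [← Blocks.irr_value_inv χ.2, htinv] at h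
    push_cast
    linear_combination (-(1 : ℂ) / 48) * h
  -- the three sums
  let v : IrrCharacter G → ℤ := fun χ => 3 * a χ + 3 * b χ - 2 * e χ + 2 * d χ
  set g := Nat.card G with hg
  have hidx : ((Subgroup.centralizer ({t} : Set G)).index : ℂ) = (g : ℂ) / 48 := by
    have h := (Subgroup.centralizer ({t} : Set G)).card_mul_index
    rw [K.card_eq, ← hg] at h
    rw [← h, Nat.cast_mul, Nat.cast_ofNat, mul_div_cancel_left₀ _ (by norm_num : (48 : ℂ) ≠ 0)]
  have hg0 : (g : ℂ) ≠ 0 := Nat.cast_ne_zero.mpr Nat.card_pos.ne'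
  have hsum : ∀ (F : Fin 48 → ℤ√(-2)) (a : IrrCharacter G → ℤ) (n : ℤ), (∀ i, ¬ special i → F i = 0) →
      (∀ χ : IrrCharacter G, (48 : ℂ) * a χ = ∑ i, phi (F i) * conj ((χ : G → ℂ) (K.E i))) →
      (∑ i, (pairs i : ℤ√(-2)) * F i) = ((n : ℤ) : ℤ√(-2)) →
      (g : ℂ) * ∑ χ : IrrCharacter G, (a χ : ℂ) * ((v χ : ℤ) : ℂ) ^ 2 /
        (charDegree (χ : G → ℂ) : ℂ) = 48 * n := by
    intro F a n hv hF hs
    have key : ∀ i, phi ((pairs i : ℤ√(-2)) * F i) = (g : ℂ) / 2304 *
        ∑ χ : IrrCharacter G, ((v χ : ℤ) : ℂ) ^ 2 / (charDegree (χ : G → ℂ) : ℂ) *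
          (phi (F i) * conj ((χ : G → ℂ) (K.E i))) := by
      intro i
      by_cases hi : special i
      · rw [map_mul, map_natCast, ← K.count hfus hi, Char.class_mult t t (K.E i : G), hidx, ← hg]
        rw [Finset.mul_sum, Finset.mul_sum, Finset.sum_mul]
        refine Finset.sum_congr rfl fun χ _ => ?_
        rw [hvt χ, (Blocks.irr_degree_eq χ).1]
        have : (charDegree (χ : G → ℂ) : ℂ) ≠ 0 := Nat.cast_ne_zero.mpr (Blocks.irr_degree_eq χ).2.ne'
        simp only [v]
        field_simp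
        ring
      · simp [hv i hi]
    have h := congrArg phi hs
    rw [map_sum, map_intCast, Finset.sum_congr rfl fun i _ => key i, ← Finset.mul_sum, Finset.sum_comm] at h
    simp only [← Finset.mul_sum, ← hF] at h
    rw [← h, Finset.mul_sum, Finset.mul_sum, Finset.mul_sum]
    exact Finset.sum_congr rfl fun χ _ => by ring
  obtain ⟨p1, p2, p3⟩ := pairs_sum
  have sA := hsum _ a 192 vA ha (by rw [p1]; norm_num)
  have sB := hsum _ b 192 vB hb (by rw [p2]; norm_num)
  have sE := hsum _ e 288 vE he (by rw [p3]; norm_num)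
  obtain ⟨P, r, hP0, hP1, hr0, hr1, hA, hE⟩ := hframe.equations v (fun _ => rfl)
  have hA' : ((P : ℂ) * (P + 1)) * ∑ χ, (a χ : ℂ) * ((v χ : ℤ) : ℂ) ^ 2 / (charDegree (χ : G → ℂ) : ℂ) =
      ((P : ℂ) + 4) ^ 2 := by
    have := congrArg (Rat.cast : ℚ → ℂ) hA
    push_cast at this
    exact this
  have hE' : ((r : ℂ) * (r + 1)) * (∑ χ, (e χ : ℂ) * ((v χ : ℤ) : ℂ) ^ 2 / (charDegree (χ : G → ℂ) : ℂ) -
      ∑ χ, (b χ : ℂ) * ((v χ : ℤ) : ℂ) ^ 2 / (charDegree (χ : G → ℂ) : ℂ)) = ((r : ℂ) + 3) ^ 2 := by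
    have := congrArg (Rat.cast : ℚ → ℂ) hE
    push_cast at this
    exact this
  push_cast at sA sB sE
  have e1 : ((g : ℤ) : ℤ) * ((P + 4) * (P + 4)) = 9216 * (P * (P + 1)) := by
    have : (g : ℂ) * (((P : ℂ) + 4) * ((P : ℂ) + 4)) = 9216 * ((P : ℂ) * (P + 1)) := by
      linear_combination (-(g : ℂ)) * hA' + ((P : ℂ) * (P + 1)) * sA
    exact_mod_cast this
  have e2 : ((g : ℤ) : ℤ) * ((r + 3) * (r + 3)) = 4608 * (r * (r + 1)) := by
    have : (g : ℂ) * (((r : ℂ) + 3) * ((r : ℂ) + 3)) = 4608 * ((r : ℂ) * (r + 1)) := by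
      linear_combination (-(g : ℂ)) * hE' + ((r : ℂ) * (r + 1)) * (sE - sB)
    exact_mod_cast this
  obtain ⟨h48, hn32⟩ := K.order_two_part hfus
  exact solve h48 hn32 e1 e2

end CfsgLib.GLTwoThreeCent
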