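import Cfsg.Agent.Lib.GLTwoThreeCent.Table

/-!
# The forty-eight positions as the elements of `GL(2,3)`
-/

set_option autoImplicit false

namespace CfsgLib.GLTwoThreeCent

open Matrix

/-- Residues as elements of the field. -/
def z3 (a : Fin 3) : ZMod 3 := a

/-- Elements of the field as residues. -/
def f3 (a : ZMod 3) : Fin 3 := a

theorem z3_mul_add : ∀ a b c d : Fin 3, z3 (a * b + c * d) = z3 a * z3 b + z3 c * z3 d := by decide

theorem z3_f3 (a : ZMod 3) : z3 (f3 a) = a := rfl

theorem f3_z3 (a : Fin 3) : f3 (z3 a) = a := rfl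

theorem z3_det : ∀ a b c d : Fin 3, a * d ≠ b * c ↔ z3 a * z3 d - z3 b * z3 c ≠ 0 := by decide

/-- The matrix of a position. -/
def mat (i : Fin 48) : Matrix (Fin 2) (Fin 2) (ZMod 3) :=
  !![z3 (quad i).1, z3 (quad i).2.1; z3 (quad i).2.2.1, z3 (quad i).2.2.2]

theorem det_mat (i : Fin 48) : (mat i).det ≠ 0 := by
  rw [mat, det_fin_two_of]
  exact (z3_det _ _ _ _).mp (det_quad i)

/-- The element of `GL(2,3)` at a position. -/
noncomputable def toGL (i : Fin 48) : GL (Fin 2) (ZMod 3) :=
  GeneralLinearGroup.mkOfDetNeZero (mat i) (det_mat i)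

theorem toGL_val (i : Fin 48) : (toGL i : Matrix (Fin 2) (Fin 2) (ZMod 3)) = mat i := rfl

theorem toGL_mul (i j : Fin 48) : toGL (mulI i j) = toGL i * toGL j := by
  refine Units.ext ?_
  rw [Units.val_mul, toGL_val, toGL_val, toGL_val, mat, mat, mat, quad_mulI, mul_fin_two]
  obtain ⟨a, b, c, d⟩ := quad i
  obtain ⟨a', b', c', d'⟩ := quad j
  simp only [qmul, z3_mul_add]

theorem toGL_bijective : Function.Bijective toGL := by
  refine ⟨fun i j h => ?_, fun u => ?_⟩
  · have h' := congrArg (fun u : GL (Fin 2) (ZMod 3) => (u : Matrix (Fin 2) (Fin 2) (ZMod 3))) h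
    simp only [toGL_val] at h'
    have e : quad i = quad j := by
      have e00 := congrArg f3 (congrFun (congrFun h' 0) 0)
      have e01 := congrArg f3 (congrFun (congrFun h' 0) 1)
      have e10 := congrArg f3 (congrFun (congrFun h' 1) 0)
      have e11 := congrArg f3 (congrFun (congrFun h' 1) 1)
      simp only [mat, of_apply, cons_val_zero, cons_val_one, f3_z3] at e00 e01 e10 e11
      exact Prod.ext e00 (Prod.ext e01 (Prod.ext e10 e11))
    rw [← pos_quad i, e, pos_quad]
  · set A : Matrix (Fin 2) (Fin 2) (ZMod 3) := (u : Matrix (Fin 2) (Fin 2) (ZMod 3)) with hA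
    have hdet : A.det ≠ 0 := (Matrix.isUnit_iff_isUnit_det A).mp u.isUnit |>.ne_zero
    rw [det_fin_two] at hdet
    refine ⟨pos (f3 (A 0 0), f3 (A 0 1), f3 (A 1 0), f3 (A 1 1)), Units.ext ?_⟩
    rw [toGL_val, mat, quad_pos _ _ _ _ ((z3_det _ _ _ _).mpr (by simpa only [z3_f3] using hdet)), ← hA]
    simp only [z3_f3]
    exact (eta_fin_two A).symm

theorem toGL_zero : toGL 0 = 1 := by
  refine Units.ext ?_
  rw [toGL_val, mat, quad_zero, Units.val_one, one_fin_two]
  rfl

theorem central_involution : ∀ i, invol i → (∀ k, mulI k i = mulI i k) → i = negI := by decide +kernel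

theorem tau_negI : invol negI := by decide +kernel

end CfsgLib.GLTwoThreeCent
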