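import Mathlib

/-!
# The group `GL(2,3)` as forty-eight quadruples, with its faithful two-dimensional representation
-/

set_option autoImplicit false

namespace CfsgLib.GLTwoThreeCent

/-- A quadruple, read as a square matrix by rows. -/
abbrev Quad (R : Type*) := R × R × R × R

/-- The product of two quadruples. -/
def qmul {R : Type*} [Add R] [Mul R] : Quad R → Quad R → Quad R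
  | (a, b, c, d), (e, f, g, h) => (a * e + b * g, a * f + b * h, c * e + d * g, c * f + d * h)

/-- The elements. -/
def quadList : List (Quad (Fin 3)) := [
  (1, 0, 0, 1),
  (0, 1, 1, 0),
  (0, 1, 1, 1),
  (0, 1, 1, 2),
  (0, 1, 2, 0),
  (0, 1, 2, 1),
  (0, 1, 2, 2),
  (0, 2, 1, 0),
  (0, 2, 1, 1),
  (0, 2, 1, 2),
  (0, 2, 2, 0),
  (0, 2, 2, 1),
  (0, 2, 2, 2),
  (1, 0, 0, 2),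
  (1, 0, 1, 1),
  (1, 0, 1, 2),
  (1, 0, 2, 1),
  (1, 0, 2, 2),
  (1, 1, 0, 1),
  (1, 1, 0, 2),
  (1, 1, 1, 0),
  (1, 1, 1, 2),
  (1, 1, 2, 0),
  (1, 1, 2, 1),
  (1, 2, 0, 1),
  (1, 2, 0, 2),
  (1, 2, 1, 0),
  (1, 2, 1, 1),
  (1, 2, 2, 0),
  (1, 2, 2, 2),
  (2, 0, 0, 1),
  (2, 0, 0, 2),
  (2, 0, 1, 1),
  (2, 0, 1, 2),
  (2, 0, 2, 1),
  (2, 0, 2, 2),
  (2, 1, 0, 1),
  (2, 1, 0, 2),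
  (2, 1, 1, 0),
  (2, 1, 1, 1),
  (2, 1, 2, 0),
  (2, 1, 2, 2),
  (2, 2, 0, 1),
  (2, 2, 0, 2),
  (2, 2, 1, 0),
  (2, 2, 1, 2),
  (2, 2, 2, 0),
  (2, 2, 2, 1)]

/-- The images in the cuspidal representation. -/
def repList : List (Quad (ℤ√(-2))) := [
  (⟨1, 0⟩, ⟨0, 0⟩, ⟨0, 0⟩, ⟨1, 0⟩),
  (⟨-1, 0⟩, ⟨0, 0⟩, ⟨1, 1⟩, ⟨1, 0⟩),
  (⟨1, 1⟩, ⟨1, 0⟩, ⟨0, -1⟩, ⟨-1, 0⟩),
  (⟨0, -1⟩, ⟨-1, 0⟩, ⟨-1, 0⟩, ⟨0, 0⟩),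
  (⟨-1, -1⟩, ⟨-2, 0⟩, ⟨0, 1⟩, ⟨1, 1⟩),
  (⟨0, 1⟩, ⟨1, 1⟩, ⟨1, 0⟩, ⟨1, -1⟩),
  (⟨1, 0⟩, ⟨1, -1⟩, ⟨-1, -1⟩, ⟨-2, 0⟩),
  (⟨1, 1⟩, ⟨2, 0⟩, ⟨0, -1⟩, ⟨-1, -1⟩),
  (⟨-1, 0⟩, ⟨-1, 1⟩, ⟨1, 1⟩, ⟨2, 0⟩),
  (⟨0, -1⟩, ⟨-1, -1⟩, ⟨-1, 0⟩, ⟨-1, 1⟩),
  (⟨1, 0⟩, ⟨0, 0⟩, ⟨-1, -1⟩, ⟨-1, 0⟩),
  (⟨0, 1⟩, ⟨1, 0⟩, ⟨1, 0⟩, ⟨0, 0⟩),
  (⟨-1, -1⟩, ⟨-1, 0⟩, ⟨0, 1⟩, ⟨1, 0⟩),
  (⟨-1, -1⟩, ⟨-2, 0⟩, ⟨-1, 1⟩, ⟨1, 1⟩),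
  (⟨0, 0⟩, ⟨1, 0⟩, ⟨-1, 0⟩, ⟨-1, 0⟩),
  (⟨-1, 1⟩, ⟨1, 1⟩, ⟨2, 0⟩, ⟨1, -1⟩),
  (⟨-1, 0⟩, ⟨-1, 0⟩, ⟨1, 0⟩, ⟨0, 0⟩),
  (⟨2, 0⟩, ⟨1, -1⟩, ⟨-1, -1⟩, ⟨-2, 0⟩),
  (⟨-1, -1⟩, ⟨-1, 0⟩, ⟨-1, 1⟩, ⟨0, 1⟩),
  (⟨1, 0⟩, ⟨1, -1⟩, ⟨0, 0⟩, ⟨-1, 0⟩),
  (⟨0, 0⟩, ⟨-1, 0⟩, ⟨-1, 0⟩, ⟨0, 1⟩),
  (⟨-1, 1⟩, ⟨0, 1⟩, ⟨2, 0⟩, ⟨1, -1⟩),
  (⟨2, 0⟩, ⟨1, -1⟩, ⟨-1, -1⟩, ⟨-1, 0⟩),
  (⟨-1, 0⟩, ⟨0, 1⟩, ⟨1, 0⟩, ⟨1, -1⟩),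
  (⟨0, 1⟩, ⟨1, 0⟩, ⟨1, -1⟩, ⟨-1, -1⟩),
  (⟨0, 1⟩, ⟨1, 1⟩, ⟨1, -1⟩, ⟨0, -1⟩),
  (⟨1, -1⟩, ⟨-1, -1⟩, ⟨-1, 0⟩, ⟨0, 1⟩),
  (⟨1, -1⟩, ⟨0, -1⟩, ⟨-1, 0⟩, ⟨-1, 0⟩),
  (⟨-1, 0⟩, ⟨-1, 0⟩, ⟨0, 1⟩, ⟨1, 1⟩),
  (⟨-1, 0⟩, ⟨0, 1⟩, ⟨0, 1⟩, ⟨1, 0⟩),
  (⟨1, 1⟩, ⟨2, 0⟩, ⟨1, -1⟩, ⟨-1, -1⟩),
  (⟨-1, 0⟩, ⟨0, 0⟩, ⟨0, 0⟩, ⟨-1, 0⟩),
  (⟨-2, 0⟩, ⟨-1, 1⟩, ⟨1, 1⟩, ⟨2, 0⟩),
  (⟨1, 0⟩, ⟨1, 0⟩, ⟨-1, 0⟩, ⟨0, 0⟩),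
  (⟨1, -1⟩, ⟨-1, -1⟩, ⟨-2, 0⟩, ⟨-1, 1⟩),
  (⟨0, 0⟩, ⟨-1, 0⟩, ⟨1, 0⟩, ⟨1, 0⟩),
  (⟨0, -1⟩, ⟨-1, -1⟩, ⟨-1, 1⟩, ⟨0, 1⟩),
  (⟨0, -1⟩, ⟨-1, 0⟩, ⟨-1, 1⟩, ⟨1, 1⟩),
  (⟨1, 0⟩, ⟨1, 0⟩, ⟨0, -1⟩, ⟨-1, -1⟩),
  (⟨1, 0⟩, ⟨0, -1⟩, ⟨0, -1⟩, ⟨-1, 0⟩),
  (⟨-1, 1⟩, ⟨1, 1⟩, ⟨1, 0⟩, ⟨0, -1⟩),
  (⟨-1, 1⟩, ⟨0, 1⟩, ⟨1, 0⟩, ⟨1, 0⟩),
  (⟨-1, 0⟩, ⟨-1, 1⟩, ⟨0, 0⟩, ⟨1, 0⟩),
  (⟨1, 1⟩, ⟨1, 0⟩, ⟨1, -1⟩, ⟨0, -1⟩),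
  (⟨-2, 0⟩, ⟨-1, 1⟩, ⟨1, 1⟩, ⟨1, 0⟩),
  (⟨1, 0⟩, ⟨0, -1⟩, ⟨-1, 0⟩, ⟨-1, 1⟩),
  (⟨0, 0⟩, ⟨1, 0⟩, ⟨1, 0⟩, ⟨0, -1⟩),
  (⟨1, -1⟩, ⟨0, -1⟩, ⟨-2, 0⟩, ⟨-1, 1⟩)]

/-- The position of a quadruple in the list. -/
def posList : List (Fin 48) := [0, 0, 0, 0, 0, 0, 0, 0, 0, 0, 0, 0, 1, 2, 3, 4, 5, 6, 0, 0, 0, 7, 8, 9, 10, 11, 12, 0, 0, 13, 0, 14, 15, 0, 16, 17, 0, 18, 19, 20, 0, 21, 22, 23, 0, 0, 24, 25, 26, 27, 0, 28, 0, 29, 0, 30, 31, 0, 32, 33, 0, 34, 35, 0, 36, 37, 38, 39, 0, 40, 0, 41, 0, 42, 43, 44, 0, 45, 46, 47, 0]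

/-- The `i`th element. -/
def quad (i : Fin 48) : Quad (Fin 3) := quadList.getD i.val (1, 0, 0, 1)

/-- The `i`th image. -/
def rep (i : Fin 48) : Quad (ℤ√(-2)) := repList.getD i.val (1, 0, 0, 1)

/-- The position of a quadruple. -/
def pos : Quad (Fin 3) → Fin 48
  | (a, b, c, d) => posList.getD (27 * a.val + 9 * b.val + 3 * c.val + d.val) 0

/-- The product of positions. -/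
def mulI (i j : Fin 48) : Fin 48 := pos (qmul (quad i) (quad j))

/-- The position of minus one. -/
def negI : Fin 48 := pos (2, 0, 0, 2)

theorem quad_zero : quad 0 = (1, 0, 0, 1) := rfl

theorem det_quad : ∀ i, (quad i).1 * (quad i).2.2.2 ≠ (quad i).2.1 * (quad i).2.2.1 := by decide +kernel

theorem pos_quad : ∀ i, pos (quad i) = i := by decide +kernel

theorem quad_pos : ∀ a b c d : Fin 3, a * d ≠ b * c → quad (pos (a, b, c, d)) = (a, b, c, d) := by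
  decide +kernel

theorem quad_mulI : ∀ i j, quad (mulI i j) = qmul (quad i) (quad j) := by decide +kernel

theorem rep_zero : rep 0 = (1, 0, 0, 1) := by decide +kernel

theorem rep_mulI : ∀ i j, rep (mulI i j) = qmul (rep i) (rep j) := by decide +kernel

/-- The trace of the representation. -/
def tau (i : Fin 48) : ℤ√(-2) := (rep i).1 + (rep i).2.2.2

/-- The determinant of the representation. -/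
def eps (i : Fin 48) : ℤ√(-2) := (rep i).1 * (rep i).2.2.2 - (rep i).2.1 * (rep i).2.2.1

/-- The character of degree three inverted by the determinant. -/
def threeP (i : Fin 48) : ℤ√(-2) := tau i * star (tau i) - 1

/-- The standard character of degree three. -/
def three (i : Fin 48) : ℤ√(-2) := eps i * threeP i

/-- The character of degree two with kernel the quaternion group. -/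
def two (i : Fin 48) : ℤ√(-2) := threeP i * threeP i - 1 - three i - threeP i

/-- The faithful character of degree four. -/
def four (i : Fin 48) : ℤ√(-2) := tau i * two i

/-- The five virtual characters supported on the special classes. -/
def thA (i : Fin 48) : ℤ√(-2) := 1 + threeP i - four i
def thB (i : Fin 48) : ℤ√(-2) := eps i + three i - four i
def thC (i : Fin 48) : ℤ√(-2) := two i - tau i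
def thD (i : Fin 48) : ℤ√(-2) := two i - star (tau i)
def thE (i : Fin 48) : ℤ√(-2) := 1 + eps i + tau i - four i

/-- The scaled inner product. -/
def ip (f g : Fin 48 → ℤ√(-2)) : ℤ√(-2) := ∑ i, f i * star (g i)

/-- Having minus one as a power. -/
def special (i : Fin 48) : Prop := ∃ k : Fin 8, (mulI i)^[k.val] i = negI

instance : DecidablePred special := fun _ => inferInstanceAs (Decidable (∃ _, _))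

/-- An involution position. -/
def invol (i : Fin 48) : Prop := mulI i i = 0 ∧ i ≠ 0

instance : DecidablePred invol := fun _ => inferInstanceAs (Decidable (_ ∧ _))

/-- The number of ways of writing a product of two involutions. -/
def pairs (i : Fin 48) : ℕ :=
  (Finset.univ.filter fun p : Fin 48 => invol p ∧ invol (mulI p i)).card

theorem vanish : ∀ i, ¬ special i →
    thA i = 0 ∧ thB i = 0 ∧ thC i = 0 ∧ thD i = 0 ∧ thE i = 0 := by decide +kernel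

theorem at_one : thA 0 = 0 ∧ thB 0 = 0 ∧ thC 0 = 0 ∧ thD 0 = 0 ∧ thE 0 = 0 := by decide +kernel

theorem gram :
    ip thA thA = 144 ∧ ip thB thB = 144 ∧ ip thD thD = 96 ∧ ip thE thE = 192 ∧
    ip thA thB = 48 ∧ ip thA thE = 96 ∧ ip thB thE = 96 ∧
    ip thD thA = 0 ∧ ip thD thB = 0 ∧ ip thD thE = 0 ∧
    ip thC thA = 0 ∧ ip thC thB = 0 ∧ ip thC thE = -48 := by decide +kernel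

theorem with_one : (∑ i, thA i) = 48 ∧ (∑ i, thB i) = 0 ∧ (∑ i, thD i) = 0 ∧ (∑ i, thE i) = 48 ∧ (∑ i, thC i) = 0 := by
  decide +kernel

theorem at_centre : ∀ i, 3 * thA i + 3 * thB i - 2 * thE i + 2 * thD i =
    if i = negI then 48 else 0 := by decide +kernel

theorem pairs_sum : (∑ i, (pairs i : ℤ√(-2)) * thA i) = 192 ∧
    (∑ i, (pairs i : ℤ√(-2)) * thB i) = 192 ∧ (∑ i, (pairs i : ℤ√(-2)) * thE i) = 288 := by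
  decide +kernel

theorem one_class : ∀ i j, invol i → invol j → i ≠ negI → j ≠ negI →
    ∃ k, mulI k i = mulI j k := by decide +kernel

theorem negI_central : ∀ i, mulI i negI = mulI negI i := by decide +kernel

end CfsgLib.GLTwoThreeCent
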